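import Mathlib

set_option autoImplicit false

namespace Cfsg.Agent.Lib.A3C
open Equiv Equiv.Perm

/-- the even permutations supported on `Ω` -/
def altOn {α : Type*} [Fintype α] [DecidableEq α] (Ω : Finset α) : Subgroup (Perm α) where
  carrier := {σ | σ.support ⊆ Ω ∧ sign σ = 1}
  one_mem' := by simp
  mul_mem' := by
    intro a b ha hb
    exact ⟨(support_mul_le a b).trans (sup_le ha.1 hb.1), by rw [map_mul, ha.2, hb.2, one_mul]⟩
  inv_mem' := by
    intro a ha
    exact ⟨by rw [support_inv]; exact ha.1, by rw [sign_inv]; exact ha.2⟩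

theorem mem_altOn {α : Type*} [Fintype α] [DecidableEq α] (Ω : Finset α) (σ : Perm α) :
    σ ∈ altOn Ω ↔ σ.support ⊆ Ω ∧ sign σ = 1 := Iff.rfl

end Cfsg.Agent.Lib.A3C
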